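import Mathlib

/-!
# Split extensions with the same prime graph

If a finite group `G` acts on a nontrivial elementary abelian `p`-group `V` (written additively), `p` divides `|G|`, and
for every prime `r ≠ p` such that some element of order `r` fixes a nonzero vector there is an element of order `p * r` in
`G`, then all the groups `V^k : G` have the same prime graph as `G`.
-/

set_option autoImplicit false

namespace Cfsg.Agent.H61

universe u v

/-- Two groups have the same prime graph. -/
def SamePrimeGraph (A : Type u) (B : Type v) [Group A] [Group B] : Prop :=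
  (∀ r : ℕ, r.Prime → (r ∣ Nat.card A ↔ r ∣ Nat.card B)) ∧
  (∀ r s : ℕ, r.Prime → s.Prime → r ≠ s → ((∃ x : A, orderOf x = r * s) ↔ (∃ y : B, orderOf y = r * s)))

theorem SamePrimeGraph.symm {A : Type u} {B : Type v} [Group A] [Group B] (h : SamePrimeGraph A B) :
    SamePrimeGraph B A :=
  ⟨fun r hr => (h.1 r hr).symm, fun r s hr hs hrs => (h.2 r s hr hs hrs).symm⟩

theorem SamePrimeGraph.trans {A : Type u} {B : Type v} {C : Type*} [Group A] [Group B] [Group C]
    (h : SamePrimeGraph A B) (h' : SamePrimeGraph B C) : SamePrimeGraph A C :=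
  ⟨fun r hr => (h.1 r hr).trans (h'.1 r hr), fun r s hr hs hrs => (h.2 r s hr hs hrs).trans (h'.2 r s hr hs hrs)⟩

theorem SamePrimeGraph.of_mulEquiv {A : Type u} {B : Type v} [Group A] [Group B] (e : A ≃* B) :
    SamePrimeGraph A B := by
  refine ⟨fun r _ => by rw [Nat.card_congr e.toEquiv], fun r s _ _ _ => ⟨?_, ?_⟩⟩
  · rintro ⟨x, hx⟩
    exact ⟨e x, by rw [MulEquiv.orderOf_eq, hx]⟩
  · rintro ⟨x, hx⟩
    exact ⟨e.symm x, by rw [MulEquiv.orderOf_eq, hx]⟩

/-- The action homomorphism `G → Aut(V)`, `V` written multiplicatively. -/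
def semiHom (G : Type u) (A : Type v) [Group G] [AddCommGroup A] [DistribMulAction G A] :
    G →* MulAut (Multiplicative A) :=
  (MulAutMultiplicative A).symm.toMonoidHom.comp (DistribMulAction.toAddAut G A)

theorem semiHom_apply {G : Type u} {A : Type v} [Group G] [AddCommGroup A] [DistribMulAction G A] (g : G)
    (a : Multiplicative A) : semiHom G A g a = Multiplicative.ofAdd (g • a.toAdd) := rfl

/-- The split extension of `V` by `G`. -/
abbrev Semi (G : Type u) (A : Type v) [Group G] [AddCommGroup A] [DistribMulAction G A] :=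
  SemidirectProduct (Multiplicative A) G (semiHom G A)

theorem semi_prime_order {G : Type u} {A : Type v} [Group G] [Finite G] [AddCommGroup A] [Finite A]
    [DistribMulAction G A] (p : ℕ) (hp : p.Prime) (hA : ∀ a : A, p • a = 0)
    (r s : ℕ) (hr : r.Prime) (hs : s.Prime) (hrs : r ≠ s) (h : Semi G A) (hh : orderOf h = r * s) :
    (∃ x : G, orderOf x = r * s) ∨
      (∃ t : ℕ, t.Prime ∧ t ≠ p ∧ r * s = p * t ∧ ∃ g : G, orderOf g = t ∧ ∃ a : A, a ≠ 0 ∧ g • a = a) := by
  have h1 : orderOf h.right ∣ r * s := by
    rw [← hh]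
    exact orderOf_map_dvd (SemidirectProduct.rightHom : Semi G A →* G) h
  -- h ^ (order of right) is in A
  set m := orderOf h.right with hm
  have hpow : (h ^ m).right = 1 := by
    have : (h ^ m).right = h.right ^ m :=
      map_pow (SemidirectProduct.rightHom : Semi G A →* G) h m
    rw [this, hm, pow_orderOf_eq_one]
  have hpowp : (h ^ m) ^ p = 1 := by
    have h3 : h ^ m = SemidirectProduct.inl (h ^ m).left := by
      ext
      · rfl
      · exact hpow
    rw [h3, ← map_pow]
    have : ((h ^ m).left) ^ p = 1 := by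
      have := hA (Multiplicative.toAdd (h ^ m).left)
      rw [← toAdd_pow] at this
      exact this
    rw [this, map_one]
  have h2 : r * s ∣ m * p := by
    rw [← hh]
    apply orderOf_dvd_of_pow_eq_one
    rw [pow_mul, hpowp]
  by_cases hmrs : m = r * s
  · left; exact ⟨h.right, hmrs⟩
  right
  -- m is a proper divisor of r * s, and r s | m p
  have hcop : Nat.Coprime r s := (Nat.coprime_primes hr hs).mpr hrs
  obtain ⟨c, hc⟩ := h1
  have hmpos : 0 < m := orderOf_pos _
  have hc1 : c ≠ 1 := by
    rintro rfl; exact hmrs (by rw [hc, mul_one])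
  have hcp : c = p := by
    rw [hc] at h2
    have := Nat.dvd_of_mul_dvd_mul_left hmpos h2
    exact ((Nat.dvd_prime hp).mp this).resolve_left hc1
  subst hcp
  -- r * s = m * c
  have hcrs : c = r ∨ c = s := by
    have : c ∣ r * s := ⟨m, by rw [hc, mul_comm]⟩
    rcases (Nat.Prime.dvd_mul hp).mp this with h | h
    · left; exact (Nat.prime_dvd_prime_iff_eq hp hr).mp h
    · right; exact (Nat.prime_dvd_prime_iff_eq hp hs).mp h
  obtain ⟨t, ht, htc, hmt, hrst⟩ : ∃ t : ℕ, t.Prime ∧ t ≠ c ∧ m = t ∧ r * s = c * t := by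
    rcases hcrs with rfl | rfl
    · refine ⟨s, hs, hrs.symm, ?_, rfl⟩
      have : c * s = c * m := by rw [hc, mul_comm]
      exact (Nat.eq_of_mul_eq_mul_left hp.pos this).symm
    · refine ⟨r, hr, hrs, ?_, mul_comm _ _⟩
      exact (Nat.eq_of_mul_eq_mul_right hp.pos hc).symm
  refine ⟨t, ht, htc, hrst, h.right, hmt, Multiplicative.toAdd (h ^ m).left, ?_, ?_⟩
  · intro h0
    have h3 : h ^ m = 1 := by
      ext
      · exact h0
      · exact hpow
    have := orderOf_dvd_of_pow_eq_one h3
    rw [hh, hc] at this
    have h4 := Nat.le_of_dvd hmpos this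
    have := hp.two_le
    nlinarith
  · have hcomm : h * h ^ m = h ^ m * h := by rw [← pow_succ', ← pow_succ]
    have h5 := congrArg SemidirectProduct.left hcomm
    rw [SemidirectProduct.mul_left, SemidirectProduct.mul_left, hpow, map_one] at h5
    have h6 : h.left * (semiHom G A h.right) (h ^ m).left = h.left * (h ^ m).left := by
      rw [h5]; exact mul_comm _ _
    have h7 := mul_left_cancel h6
    rw [semiHom_apply] at h7
    exact h7

/-- `V : G` has the same prime graph as `G`. -/
theorem semi_samePrimeGraph {G : Type u} {A : Type v} [Group G] [Finite G] [AddCommGroup A] [Finite A]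
    [DistribMulAction G A] (p : ℕ) (hp : p.Prime) (hA : ∀ a : A, p • a = 0) (hpG : p ∣ Nat.card G)
    (hfix : ∀ r : ℕ, r.Prime → r ≠ p → ∀ g : G, orderOf g = r → ∀ v : A, v ≠ 0 → g • v = v →
      ∃ x : G, orderOf x = p * r) :
    SamePrimeGraph G (Semi G A) := by
  refine ⟨fun r hr => ?_, fun r s hr hs hrs => ⟨?_, ?_⟩⟩
  · rw [SemidirectProduct.card]
    constructor
    · intro h; exact h.mul_left _
    · intro h
      rcases (Nat.Prime.dvd_mul hr).mp h with h | h
      · have : r = p := by
          have : IsPGroup p (Multiplicative A) := fun a => ⟨1, by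
            rw [pow_one]
            have := hA a.toAdd
            rw [← toAdd_pow] at this
            exact this⟩
          have hp' : Fact p.Prime := ⟨hp⟩
          obtain ⟨n, hn⟩ := IsPGroup.iff_card.mp this
          rw [hn] at h
          exact (Nat.prime_dvd_prime_iff_eq hr hp).mp (hr.dvd_of_dvd_pow h)
        rw [this]; exact hpG
      · exact h
  · rintro ⟨x, hx⟩
    exact ⟨SemidirectProduct.inr x, by
      rw [orderOf_injective (SemidirectProduct.inr : G →* Semi G A) SemidirectProduct.inr_injective]; exact hx⟩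
  · rintro ⟨y, hy⟩
    rcases semi_prime_order p hp hA r s hr hs hrs y hy with h | ⟨t, ht, htp, hrs', g, hg, a, ha, hga⟩
    · exact h
    · rw [hrs']
      exact hfix t ht htp g hg a ha hga

/-- Groups of unbounded order with the same prime graph as `G`. -/
theorem unbounded_samePrimeGraph {G : Type u} {V : Type v} [Group G] [Finite G] [AddCommGroup V] [Finite V] [Nontrivial V]
    [DistribMulAction G V] (p : ℕ) (hp : p.Prime) (hV : ∀ a : V, p • a = 0) (hpG : p ∣ Nat.card G)
    (hfix : ∀ r : ℕ, r.Prime → r ≠ p → ∀ g : G, orderOf g = r → ∀ v : V, v ≠ 0 → g • v = v →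
      ∃ x : G, orderOf x = p * r) (N : ℕ) :
    ∃ (H : Type) (_ : Group H) (_ : Finite H), N < Nat.card H ∧ SamePrimeGraph G H := by
  have hsame : SamePrimeGraph G (Semi G (Fin N → V)) := by
    apply semi_samePrimeGraph p hp (fun a => by ext i; exact hV (a i)) hpG
    intro r hr hrp g hg v hv hgv
    obtain ⟨i, hi⟩ := Function.ne_iff.mp hv
    exact hfix r hr hrp g hg (v i) hi (congrFun hgv i)
  have hfin : Finite (Semi G (Fin N → V)) :=
    Finite.of_equiv _ (SemidirectProduct.equivProd (N := Multiplicative (Fin N → V)) (G := G)).symm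
  refine ⟨Shrink.{0} (Semi G (Fin N → V)), inferInstance, inferInstance, ?_,
    hsame.trans (SamePrimeGraph.of_mulEquiv (Shrink.mulEquiv).symm)⟩
  rw [Nat.card_congr (Shrink.mulEquiv.{0} (α := Semi G (Fin N → V))).toEquiv, SemidirectProduct.card]
  have h1 : Nat.card (Multiplicative (Fin N → V)) = Nat.card V ^ N := by
    rw [Nat.card_congr (Multiplicative.toAdd), Nat.card_fun, Nat.card_fin]
  rw [h1]
  have h2 : 1 < Nat.card V := Finite.one_lt_card
  have h3 : N < Nat.card V ^ N := Nat.lt_pow_self h2
  have h4 : 0 < Nat.card G := Nat.card_pos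
  nlinarith

/-- The version for a representation over a finite field of characteristic `p`, given by matrices. -/
theorem unbounded_of_matrixRep {G : Type u} [Group G] [Finite G] {F : Type v} [Field F] [Finite F] (p : ℕ) (hp : p.Prime)
    [CharP F p] {ι : Type*} [Fintype ι] [DecidableEq ι] [Nonempty ι] (ρ : G →* Matrix ι ι F) (hpG : p ∣ Nat.card G)
    (hfix : ∀ r : ℕ, r.Prime → r ≠ p → ∀ g : G, orderOf g = r → ∀ v : ι → F, v ≠ 0 → Matrix.mulVec (ρ g) v = v →
      ∃ x : G, orderOf x = p * r) (N : ℕ) :
    ∃ (H : Type) (_ : Group H) (_ : Finite H), N < Nat.card H ∧ SamePrimeGraph G H := by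
  let act : DistribMulAction G (ι → F) :=
    { smul := fun g v => Matrix.mulVec (ρ g) v
      one_smul := fun v => by
        change Matrix.mulVec (ρ 1) v = v
        rw [map_one, Matrix.one_mulVec]
      mul_smul := fun g h v => by
        change Matrix.mulVec (ρ (g * h)) v = Matrix.mulVec (ρ g) (Matrix.mulVec (ρ h) v)
        rw [map_mul, Matrix.mulVec_mulVec]
      smul_zero := fun g => Matrix.mulVec_zero _
      smul_add := fun g v w => Matrix.mulVec_add _ _ _ }
  have hV : ∀ a : ι → F, p • a = 0 := fun a => by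
    ext i
    simp [CharP.cast_eq_zero]
  exact unbounded_samePrimeGraph (V := ι → F) p hp hV hpG hfix N

end Cfsg.Agent.H61
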